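import Mathlib

universe u

open TensorProduct IsLocalRing

namespace Groth.Agent.SymbPowLib

variable {R S : Type u} [CommRing R] [CommRing S] [Algebra R S]

/-- multiplication by `t` on `V ⊗[R] S` -/
noncomputable abbrev mulT (V : Type u) [AddCommGroup V] [Module R V] (t : S) :
    V ⊗[R] S →ₗ[R] V ⊗[R] S :=
  LinearMap.lTensor V (LinearMap.mulLeft R t)

lemma rTensor_mulT {V W : Type u} [AddCommGroup V] [Module R V] [AddCommGroup W] [Module R W]
    (f : V →ₗ[R] W) (t : S) (z : V ⊗[R] S) :
    mulT W t (f.rTensor S z) = f.rTensor S (mulT V t z) := by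
  simp only [mulT, ← LinearMap.comp_apply, LinearMap.lTensor_comp_rTensor,
    LinearMap.rTensor_comp_lTensor]

lemma mk_one_tmul_eq_zero_iff (I : Ideal R) (y : S) :
    ((1 : R ⧸ I) ⊗ₜ[R] y) = 0 ↔ y ∈ I.map (algebraMap R S) := by
  rw [← (TensorProduct.quotTensorEquivQuotSMul S I).map_eq_zero_iff]
  rw [show (1 : R ⧸ I) = Ideal.Quotient.mk I 1 from rfl,
    TensorProduct.quotTensorEquivQuotSMul_mk_tmul, one_smul, Submodule.Quotient.mk_eq_zero,
    Ideal.smul_top_eq_map, Submodule.restrictScalars_mem]

variable [Module.Flat R S] (p : Ideal R) [p.IsPrime]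

lemma mulT_residueField_injective (hq : (p.map (algebraMap R S)).IsPrime)
    {t : S} (ht : t ∉ p.map (algebraMap R S)) :
    Function.Injective (mulT (R := R) (ResidueField (Localization.AtPrime p)) t) := by
  let k := ResidueField (Localization.AtPrime p)
  rw [injective_iff_map_eq_zero]
  intro z hz
  have key : ∀ z : k ⊗[R] S, ∃ (s : R) (_ : s ∉ p) (b : S), s • z = (1 : k) ⊗ₜ[R] b := by
    intro z
    induction z using TensorProduct.induction_on with
    | zero => exact ⟨1, (p.ne_top_iff_one.mp Ideal.IsPrime.ne_top'), 0, by simp⟩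
    | tmul x b =>
      obtain ⟨x', rfl⟩ := residue_surjective x
      obtain ⟨⟨a, s⟩, hs⟩ := IsLocalization.surj p.primeCompl x'
      refine ⟨s, s.2, a • b, ?_⟩
      rw [TensorProduct.smul_tmul', ← TensorProduct.smul_tmul]
      congr 1
      rw [Algebra.smul_def, Algebra.smul_def, mul_one,
        IsScalarTower.algebraMap_apply R (Localization.AtPrime p) k,
        IsScalarTower.algebraMap_apply R (Localization.AtPrime p) k, ResidueField.algebraMap_eq,
        ← map_mul, mul_comm, hs]
    | add x y hx hy =>
      obtain ⟨s, hs, b, hb⟩ := hx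
      obtain ⟨s', hs', b', hb'⟩ := hy
      refine ⟨s * s', fun h => (Ideal.IsPrime.mem_or_mem' h).elim hs hs', s' • b + s • b', ?_⟩
      rw [smul_add, TensorProduct.tmul_add, TensorProduct.tmul_smul, TensorProduct.tmul_smul,
        ← hb, ← hb', smul_smul, smul_smul, mul_comm s' s]
  obtain ⟨s, hs, b, hb⟩ := key z
  let f : R ⧸ p →ₗ[R] k := (Ideal.Quotient.liftₐ p (Algebra.ofId R k) (fun a ha => by
    simpa [k] using (Ideal.algebraMap_residueField_eq_zero (I := p)).mpr ha)).toLinearMap
  have hf : Function.Injective f := by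
    rw [injective_iff_map_eq_zero]
    intro x hx
    obtain ⟨a, rfl⟩ := Ideal.Quotient.mk_surjective x
    rw [Ideal.Quotient.eq_zero_iff_mem]
    exact (Ideal.algebraMap_residueField_eq_zero (I := p)).mp hx
  have h1 : ((1 : R ⧸ p) ⊗ₜ[R] (t * b)) = 0 := by
    apply Module.Flat.rTensor_preserves_injective_linearMap (M := S) f hf
    rw [LinearMap.rTensor_tmul, map_zero]
    have : mulT (R := R) k t (s • z) = 0 := by rw [map_smul, hz, smul_zero]
    rw [hb] at this
    simpa [f] using this
  rw [mk_one_tmul_eq_zero_iff] at h1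
  have hb0 := (mk_one_tmul_eq_zero_iff p b).mpr ((hq.mem_or_mem h1).resolve_left ht)
  have hsz : s • z = 0 := by
    rw [hb, ← map_zero (f.rTensor S), ← hb0, LinearMap.rTensor_tmul]
    simp [f]
  have hu : IsUnit (algebraMap R k s) := by
    rw [isUnit_iff_ne_zero, Ne, Ideal.algebraMap_residueField_eq_zero]
    exact hs
  rw [← algebraMap_smul k s z] at hsz
  exact hu.smul_eq_zero.mp hsz

lemma mulT_injective_of_killed (hq : (p.map (algebraMap R S)).IsPrime)
    {t : S} (ht : t ∉ p.map (algebraMap R S)) (V : Type u) [AddCommGroup V] [Module R V]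
    [Module (ResidueField (Localization.AtPrime p)) V]
    [IsScalarTower R (ResidueField (Localization.AtPrime p)) V] :
    Function.Injective (mulT (R := R) V t) := by
  let k := ResidueField (Localization.AtPrime p)
  let m : k ⊗[R] S →ₗ[k] k ⊗[R] S :=
    TensorProduct.AlgebraTensorModule.lTensor k k (LinearMap.mulLeft R t)
  have hm : Function.Injective (m.lTensor V) :=
    Module.Flat.lTensor_preserves_injective_linearMap m (mulT_residueField_injective p hq ht)
  let e := TensorProduct.AlgebraTensorModule.cancelBaseChange R k k V S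
  have comm : ∀ w, mulT (R := R) V t (e w) = e (m.lTensor V w) := by
    intro w
    induction w using TensorProduct.induction_on with
    | zero => simp
    | add x y hx hy => simp [hx, hy]
    | tmul v u =>
      induction u using TensorProduct.induction_on with
      | zero => simp
      | add x y hx hy => simp only [TensorProduct.tmul_add, map_add, hx, hy]
      | tmul c y => simp [e, m, mulT, k]
  intro a b hab
  obtain ⟨a, rfl⟩ := e.surjective a
  obtain ⟨b, rfl⟩ := e.surjective b
  rw [comm, comm] at hab
  rw [hm (e.injective hab)]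

lemma mulT_injective_of_torsion (hq : (p.map (algebraMap R S)).IsPrime)
    {t : S} (ht : t ∉ p.map (algebraMap R S)) (V : Type u) [AddCommGroup V] [Module R V]
    [Module (Localization.AtPrime p) V] [IsScalarTower R (Localization.AtPrime p) V]
    (hV : Module.IsTorsionBySet (Localization.AtPrime p) V
      (maximalIdeal (Localization.AtPrime p) : Set (Localization.AtPrime p))) :
    Function.Injective (mulT (R := R) V t) := by
  let : Module (ResidueField (Localization.AtPrime p)) V := hV.module
  have : IsScalarTower (Localization.AtPrime p) (ResidueField (Localization.AtPrime p)) V :=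
    hV.isScalarTower
  have : IsScalarTower R (ResidueField (Localization.AtPrime p)) V :=
    .to₁₃₄ R (Localization.AtPrime p) (ResidueField (Localization.AtPrime p)) V
  exact mulT_injective_of_killed p hq ht V

lemma exact_step (A : Type u) [CommRing A] [Algebra R A] {M N : Type u} [AddCommGroup M]
    [AddCommGroup N] [Module A M] [Module A N] [Module R M] [Module R N] [IsScalarTower R A M]
    [IsScalarTower R A N] (π : M →ₗ[A] N) (hπ : Function.Surjective π) (t : S)
    (hW : Function.Injective (mulT (R := R) (LinearMap.ker π) t))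
    (hN : Function.Injective (mulT (R := R) N t)) :
    Function.Injective (mulT (R := R) M t) := by
  let ι : LinearMap.ker π →ₗ[R] M := (LinearMap.ker π).subtype.restrictScalars R
  let π' : M →ₗ[R] N := π.restrictScalars R
  have hex : Function.Exact ι π' := fun x =>
    ⟨fun h => ⟨⟨x, h⟩, rfl⟩, fun ⟨y, hy⟩ => hy ▸ y.2⟩
  rw [injective_iff_map_eq_zero]
  intro z hz
  have h0 : π'.rTensor S z = 0 := by
    apply hN
    rw [rTensor_mulT, hz, map_zero, map_zero]
  obtain ⟨w, rfl⟩ := (rTensor_exact S hex hπ z).mp h0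
  rw [rTensor_mulT] at hz
  have h1 : mulT _ t w = 0 := (Module.Flat.rTensor_preserves_injective_linearMap (M := S) ι
      Subtype.val_injective) (hz.trans (map_zero _).symm)
  rw [hW (h1.trans (map_zero _).symm), map_zero]

lemma mulT_injective_quot_pow (hq : (p.map (algebraMap R S)).IsPrime)
    {t : S} (ht : t ∉ p.map (algebraMap R S)) : ∀ n : ℕ,
    Function.Injective (mulT (R := R) ((Localization.AtPrime p) ⧸ maximalIdeal (Localization.AtPrime p) ^ n) t) := by
  intro n
  induction n with
  | zero =>
    haveI : Subsingleton ((Localization.AtPrime p) ⧸ maximalIdeal (Localization.AtPrime p) ^ 0) :=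
      Ideal.Quotient.subsingleton_iff.mpr (by simp)
    intro a b _
    exact Subsingleton.elim a b
  | succ n ih =>
    let A := Localization.AtPrime p
    let m := maximalIdeal A
    let π : (A ⧸ m ^ (n + 1)) →ₗ[A] (A ⧸ m ^ n) :=
      Submodule.factor (Ideal.pow_le_pow_right n.le_succ)
    let W := LinearMap.ker π
    have hW : Module.IsTorsionBySet A W (m : Set A) := by
      rintro ⟨w, hw⟩ ⟨a, ha⟩
      apply Subtype.ext
      obtain ⟨x, rfl⟩ := Submodule.Quotient.mk_surjective _ w
      replace hw : x ∈ m ^ n := (Submodule.Quotient.mk_eq_zero (m ^ n)).mp hw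
      show a • Submodule.Quotient.mk x = 0
      rw [← Submodule.Quotient.mk_smul, Submodule.Quotient.mk_eq_zero, pow_succ', smul_eq_mul]
      exact Ideal.mul_mem_mul ha hw
    exact exact_step A π (Submodule.factor_surjective _) t
      (mulT_injective_of_torsion p hq ht W hW) ih

theorem symbolicPower_map (hq : (p.map (algebraMap R S)).IsPrime) (n : ℕ) {y t : S}
    (ht : t ∉ p.map (algebraMap R S)) (hty : t * y ∈ (p ^ n).map (algebraMap R S)) :
    y ∈ (((p ^ n).map (algebraMap R (Localization.AtPrime p))).comap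
      (algebraMap R (Localization.AtPrime p))).map (algebraMap R S) := by
  let A := Localization.AtPrime p
  let m := maximalIdeal A
  have hm : m ^ n = (p ^ n).map (algebraMap R A) := by
    rw [Ideal.map_pow, Localization.AtPrime.map_eq_maximalIdeal]
  let P := ((p ^ n).map (algebraMap R A)).comap (algebraMap R A)
  let φ : R ⧸ P →ₗ[R] A ⧸ m ^ n := (Ideal.Quotient.liftₐ P (Algebra.ofId R (A ⧸ m ^ n)) (fun a ha => by
    show algebraMap R (A ⧸ m ^ n) a = 0
    rw [IsScalarTower.algebraMap_apply R A (A ⧸ m ^ n), Ideal.Quotient.algebraMap_eq,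
      Ideal.Quotient.eq_zero_iff_mem, hm]
    exact ha)).toLinearMap
  have hφ : Function.Injective φ := by
    rw [injective_iff_map_eq_zero]
    intro x hx
    obtain ⟨a, rfl⟩ := Ideal.Quotient.mk_surjective x
    rw [Ideal.Quotient.eq_zero_iff_mem]
    show algebraMap R A a ∈ (p ^ n).map (algebraMap R A)
    rw [← hm, ← Ideal.Quotient.eq_zero_iff_mem, ← Ideal.Quotient.algebraMap_eq,
      ← IsScalarTower.algebraMap_apply]
    exact hx
  have h1 : ((1 : R ⧸ p ^ n) ⊗ₜ[R] (t * y)) = 0 := (mk_one_tmul_eq_zero_iff _ _).mpr hty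
  rw [← mk_one_tmul_eq_zero_iff]
  apply Module.Flat.rTensor_preserves_injective_linearMap (M := S) φ hφ
  rw [map_zero, LinearMap.rTensor_tmul]
  apply mulT_injective_quot_pow p hq ht n
  rw [map_zero]
  let ψ : R ⧸ p ^ n →ₗ[R] R ⧸ P := Submodule.factor Ideal.le_comap_map
  calc mulT (R := R) _ t (φ 1 ⊗ₜ[R] y) = φ (ψ 1) ⊗ₜ[R] (t * y) := by simp [mulT, ψ]
    _ = (φ ∘ₗ ψ).rTensor S ((1 : R ⧸ p ^ n) ⊗ₜ[R] (t * y)) := rfl
    _ = 0 := by rw [h1, map_zero]

end Groth.Agent.SymbPowLib
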